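import Cfsg.Agent.Schur.Fi22.CovD

set_option autoImplicit false
set_option maxRecDepth 100000

namespace Cfsg.Agent.Schur.Fi22
open Cfsg.Agent.Comp Cfsg.Agent.Schur

theorem covE_24_9 : EqsP 213488 9 18 TC covE_24L :=
  eqsP_of okC (by norm_num) (by norm_num) (by norm_num) (show eqsP (nat_lit 213488) (nat_lit 18) (nat_lit 9) (nat_lit 9) TC covE_24L = true by decide +kernel)

theorem covE_25_0 : EqsP 213488 0 9 TC covE_25L :=
  eqsP_of okC (by norm_num) (by norm_num) (by norm_num) (show eqsP (nat_lit 213488) (nat_lit 18) (nat_lit 0) (nat_lit 9) TC covE_25L = true by decide +kernel)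

theorem covE_25_9 : EqsP 213488 9 18 TC covE_25L :=
  eqsP_of okC (by norm_num) (by norm_num) (by norm_num) (show eqsP (nat_lit 213488) (nat_lit 18) (nat_lit 9) (nat_lit 9) TC covE_25L = true by decide +kernel)

theorem covE_26_0 : EqsP 213488 0 9 TC covE_26L :=
  eqsP_of okC (by norm_num) (by norm_num) (by norm_num) (show eqsP (nat_lit 213488) (nat_lit 18) (nat_lit 0) (nat_lit 9) TC covE_26L = true by decide +kernel)

theorem covE_26_9 : EqsP 213488 9 18 TC covE_26L :=
  eqsP_of okC (by norm_num) (by norm_num) (by norm_num) (show eqsP (nat_lit 213488) (nat_lit 18) (nat_lit 9) (nat_lit 9) TC covE_26L = true by decide +kernel)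

theorem covE_27_0 : EqsP 213488 0 9 TC covE_27L :=
  eqsP_of okC (by norm_num) (by norm_num) (by norm_num) (show eqsP (nat_lit 213488) (nat_lit 18) (nat_lit 0) (nat_lit 9) TC covE_27L = true by decide +kernel)

theorem covE_27_9 : EqsP 213488 9 18 TC covE_27L :=
  eqsP_of okC (by norm_num) (by norm_num) (by norm_num) (show eqsP (nat_lit 213488) (nat_lit 18) (nat_lit 9) (nat_lit 9) TC covE_27L = true by decide +kernel)

theorem covE_28_0 : EqsP 213488 0 9 TC covE_28L :=
  eqsP_of okC (by norm_num) (by norm_num) (by norm_num) (show eqsP (nat_lit 213488) (nat_lit 18) (nat_lit 0) (nat_lit 9) TC covE_28L = true by decide +kernel)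

theorem covE_28_9 : EqsP 213488 9 18 TC covE_28L :=
  eqsP_of okC (by norm_num) (by norm_num) (by norm_num) (show eqsP (nat_lit 213488) (nat_lit 18) (nat_lit 9) (nat_lit 9) TC covE_28L = true by decide +kernel)

theorem covE_29_0 : EqsP 213488 0 9 TC covE_29L :=
  eqsP_of okC (by norm_num) (by norm_num) (by norm_num) (show eqsP (nat_lit 213488) (nat_lit 18) (nat_lit 0) (nat_lit 9) TC covE_29L = true by decide +kernel)

theorem covE_29_9 : EqsP 213488 9 18 TC covE_29L :=
  eqsP_of okC (by norm_num) (by norm_num) (by norm_num) (show eqsP (nat_lit 213488) (nat_lit 18) (nat_lit 9) (nat_lit 9) TC covE_29L = true by decide +kernel)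

theorem covE_30_0 : EqsP 213488 0 9 TC covE_30L :=
  eqsP_of okC (by norm_num) (by norm_num) (by norm_num) (show eqsP (nat_lit 213488) (nat_lit 18) (nat_lit 0) (nat_lit 9) TC covE_30L = true by decide +kernel)

theorem covE_30_9 : EqsP 213488 9 18 TC covE_30L :=
  eqsP_of okC (by norm_num) (by norm_num) (by norm_num) (show eqsP (nat_lit 213488) (nat_lit 18) (nat_lit 9) (nat_lit 9) TC covE_30L = true by decide +kernel)

theorem covE_31_0 : EqsP 213488 0 9 TC covE_31L :=
  eqsP_of okC (by norm_num) (by norm_num) (by norm_num) (show eqsP (nat_lit 213488) (nat_lit 18) (nat_lit 0) (nat_lit 9) TC covE_31L = true by decide +kernel)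

theorem covE_31_9 : EqsP 213488 9 18 TC covE_31L :=
  eqsP_of okC (by norm_num) (by norm_num) (by norm_num) (show eqsP (nat_lit 213488) (nat_lit 18) (nat_lit 9) (nat_lit 9) TC covE_31L = true by decide +kernel)

theorem covE_32_0 : EqsP 213488 0 9 TC covE_32L :=
  eqsP_of okC (by norm_num) (by norm_num) (by norm_num) (show eqsP (nat_lit 213488) (nat_lit 18) (nat_lit 0) (nat_lit 9) TC covE_32L = true by decide +kernel)

theorem covE_32_9 : EqsP 213488 9 18 TC covE_32L :=
  eqsP_of okC (by norm_num) (by norm_num) (by norm_num) (show eqsP (nat_lit 213488) (nat_lit 18) (nat_lit 9) (nat_lit 9) TC covE_32L = true by decide +kernel)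

theorem covE_33_0 : EqsP 213488 0 18 TC covE_33L :=
  eqsP_of okC (by norm_num) (by norm_num) (by norm_num) (show eqsP (nat_lit 213488) (nat_lit 18) (nat_lit 0) (nat_lit 18) TC covE_33L = true by decide +kernel)

theorem covE_34_0 : EqsP 213488 0 18 TC covE_34L :=
  eqsP_of okC (by norm_num) (by norm_num) (by norm_num) (show eqsP (nat_lit 213488) (nat_lit 18) (nat_lit 0) (nat_lit 18) TC covE_34L = true by decide +kernel)

theorem covE_35_0 : EqsP 213488 0 18 TC covE_35L :=
  eqsP_of okC (by norm_num) (by norm_num) (by norm_num) (show eqsP (nat_lit 213488) (nat_lit 18) (nat_lit 0) (nat_lit 18) TC covE_35L = true by decide +kernel)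

theorem covE_36_0 : EqsP 213488 0 9 TC covE_36L :=
  eqsP_of okC (by norm_num) (by norm_num) (by norm_num) (show eqsP (nat_lit 213488) (nat_lit 18) (nat_lit 0) (nat_lit 9) TC covE_36L = true by decide +kernel)

theorem covE_36_9 : EqsP 213488 9 18 TC covE_36L :=
  eqsP_of okC (by norm_num) (by norm_num) (by norm_num) (show eqsP (nat_lit 213488) (nat_lit 18) (nat_lit 9) (nat_lit 9) TC covE_36L = true by decide +kernel)

theorem covE_37_0 : EqsP 213488 0 18 TC covE_37L :=
  eqsP_of okC (by norm_num) (by norm_num) (by norm_num) (show eqsP (nat_lit 213488) (nat_lit 18) (nat_lit 0) (nat_lit 18) TC covE_37L = true by decide +kernel)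

theorem covE_38_0 : EqsP 213488 0 18 TC covE_38L :=
  eqsP_of okC (by norm_num) (by norm_num) (by norm_num) (show eqsP (nat_lit 213488) (nat_lit 18) (nat_lit 0) (nat_lit 18) TC covE_38L = true by decide +kernel)

theorem covE_39_0 : EqsP 213488 0 18 TC covE_39L :=
  eqsP_of okC (by norm_num) (by norm_num) (by norm_num) (show eqsP (nat_lit 213488) (nat_lit 18) (nat_lit 0) (nat_lit 18) TC covE_39L = true by decide +kernel)

theorem covE_40_0 : EqsP 213488 0 18 TC covE_40L :=
  eqsP_of okC (by norm_num) (by norm_num) (by norm_num) (show eqsP (nat_lit 213488) (nat_lit 18) (nat_lit 0) (nat_lit 18) TC covE_40L = true by decide +kernel)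

theorem covE_41_0 : EqsP 213488 0 9 TC covE_41L :=
  eqsP_of okC (by norm_num) (by norm_num) (by norm_num) (show eqsP (nat_lit 213488) (nat_lit 18) (nat_lit 0) (nat_lit 9) TC covE_41L = true by decide +kernel)

theorem covE_41_9 : EqsP 213488 9 18 TC covE_41L :=
  eqsP_of okC (by norm_num) (by norm_num) (by norm_num) (show eqsP (nat_lit 213488) (nat_lit 18) (nat_lit 9) (nat_lit 9) TC covE_41L = true by decide +kernel)

theorem covE_42_0 : EqsP 213488 0 1 TC covE_42L :=
  eqsP_of okC (by norm_num) (by norm_num) (by norm_num) (show eqsP (nat_lit 213488) (nat_lit 18) (nat_lit 0) (nat_lit 1) TC covE_42L = true by decide +kernel)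

theorem covE_42_1 : EqsP 213488 1 2 TC covE_42L :=
  eqsP_of okC (by norm_num) (by norm_num) (by norm_num) (show eqsP (nat_lit 213488) (nat_lit 18) (nat_lit 1) (nat_lit 1) TC covE_42L = true by decide +kernel)

theorem covE_42_2 : EqsP 213488 2 3 TC covE_42L :=
  eqsP_of okC (by norm_num) (by norm_num) (by norm_num) (show eqsP (nat_lit 213488) (nat_lit 18) (nat_lit 2) (nat_lit 1) TC covE_42L = true by decide +kernel)

theorem covE_42_3 : EqsP 213488 3 4 TC covE_42L :=
  eqsP_of okC (by norm_num) (by norm_num) (by norm_num) (show eqsP (nat_lit 213488) (nat_lit 18) (nat_lit 3) (nat_lit 1) TC covE_42L = true by decide +kernel)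

theorem covE_42_4 : EqsP 213488 4 5 TC covE_42L :=
  eqsP_of okC (by norm_num) (by norm_num) (by norm_num) (show eqsP (nat_lit 213488) (nat_lit 18) (nat_lit 4) (nat_lit 1) TC covE_42L = true by decide +kernel)


end Cfsg.Agent.Schur.Fi22
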