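import Cfsg.Agent.Schur.Fi22.CovD

set_option autoImplicit false
set_option maxRecDepth 100000

namespace Cfsg.Agent.Schur.Fi22
open Cfsg.Agent.Comp Cfsg.Agent.Schur

theorem covE_43_16 : EqsP 213488 16 17 TC covE_43L :=
  eqsP_of okC (by norm_num) (by norm_num) (by norm_num) (show eqsP (nat_lit 213488) (nat_lit 18) (nat_lit 16) (nat_lit 1) TC covE_43L = true by decide +kernel)

theorem covE_43_17 : EqsP 213488 17 18 TC covE_43L :=
  eqsP_of okC (by norm_num) (by norm_num) (by norm_num) (show eqsP (nat_lit 213488) (nat_lit 18) (nat_lit 17) (nat_lit 1) TC covE_43L = true by decide +kernel)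

theorem covE_44_0 : EqsP 213488 0 1 TC covE_44L :=
  eqsP_of okC (by norm_num) (by norm_num) (by norm_num) (show eqsP (nat_lit 213488) (nat_lit 18) (nat_lit 0) (nat_lit 1) TC covE_44L = true by decide +kernel)

theorem covE_44_1 : EqsP 213488 1 2 TC covE_44L :=
  eqsP_of okC (by norm_num) (by norm_num) (by norm_num) (show eqsP (nat_lit 213488) (nat_lit 18) (nat_lit 1) (nat_lit 1) TC covE_44L = true by decide +kernel)

theorem covE_44_2 : EqsP 213488 2 3 TC covE_44L :=
  eqsP_of okC (by norm_num) (by norm_num) (by norm_num) (show eqsP (nat_lit 213488) (nat_lit 18) (nat_lit 2) (nat_lit 1) TC covE_44L = true by decide +kernel)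

theorem covE_44_3 : EqsP 213488 3 4 TC covE_44L :=
  eqsP_of okC (by norm_num) (by norm_num) (by norm_num) (show eqsP (nat_lit 213488) (nat_lit 18) (nat_lit 3) (nat_lit 1) TC covE_44L = true by decide +kernel)

theorem covE_44_4 : EqsP 213488 4 5 TC covE_44L :=
  eqsP_of okC (by norm_num) (by norm_num) (by norm_num) (show eqsP (nat_lit 213488) (nat_lit 18) (nat_lit 4) (nat_lit 1) TC covE_44L = true by decide +kernel)

theorem covE_44_5 : EqsP 213488 5 6 TC covE_44L :=
  eqsP_of okC (by norm_num) (by norm_num) (by norm_num) (show eqsP (nat_lit 213488) (nat_lit 18) (nat_lit 5) (nat_lit 1) TC covE_44L = true by decide +kernel)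

theorem covE_44_6 : EqsP 213488 6 7 TC covE_44L :=
  eqsP_of okC (by norm_num) (by norm_num) (by norm_num) (show eqsP (nat_lit 213488) (nat_lit 18) (nat_lit 6) (nat_lit 1) TC covE_44L = true by decide +kernel)

theorem covE_44_7 : EqsP 213488 7 8 TC covE_44L :=
  eqsP_of okC (by norm_num) (by norm_num) (by norm_num) (show eqsP (nat_lit 213488) (nat_lit 18) (nat_lit 7) (nat_lit 1) TC covE_44L = true by decide +kernel)

theorem covE_44_8 : EqsP 213488 8 9 TC covE_44L :=
  eqsP_of okC (by norm_num) (by norm_num) (by norm_num) (show eqsP (nat_lit 213488) (nat_lit 18) (nat_lit 8) (nat_lit 1) TC covE_44L = true by decide +kernel)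

theorem covE_44_9 : EqsP 213488 9 10 TC covE_44L :=
  eqsP_of okC (by norm_num) (by norm_num) (by norm_num) (show eqsP (nat_lit 213488) (nat_lit 18) (nat_lit 9) (nat_lit 1) TC covE_44L = true by decide +kernel)

theorem covE_44_10 : EqsP 213488 10 11 TC covE_44L :=
  eqsP_of okC (by norm_num) (by norm_num) (by norm_num) (show eqsP (nat_lit 213488) (nat_lit 18) (nat_lit 10) (nat_lit 1) TC covE_44L = true by decide +kernel)

theorem covE_44_11 : EqsP 213488 11 12 TC covE_44L :=
  eqsP_of okC (by norm_num) (by norm_num) (by norm_num) (show eqsP (nat_lit 213488) (nat_lit 18) (nat_lit 11) (nat_lit 1) TC covE_44L = true by decide +kernel)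

theorem covE_44_12 : EqsP 213488 12 13 TC covE_44L :=
  eqsP_of okC (by norm_num) (by norm_num) (by norm_num) (show eqsP (nat_lit 213488) (nat_lit 18) (nat_lit 12) (nat_lit 1) TC covE_44L = true by decide +kernel)

theorem covE_44_13 : EqsP 213488 13 14 TC covE_44L :=
  eqsP_of okC (by norm_num) (by norm_num) (by norm_num) (show eqsP (nat_lit 213488) (nat_lit 18) (nat_lit 13) (nat_lit 1) TC covE_44L = true by decide +kernel)

theorem covE_44_14 : EqsP 213488 14 15 TC covE_44L :=
  eqsP_of okC (by norm_num) (by norm_num) (by norm_num) (show eqsP (nat_lit 213488) (nat_lit 18) (nat_lit 14) (nat_lit 1) TC covE_44L = true by decide +kernel)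

theorem covE_44_15 : EqsP 213488 15 16 TC covE_44L :=
  eqsP_of okC (by norm_num) (by norm_num) (by norm_num) (show eqsP (nat_lit 213488) (nat_lit 18) (nat_lit 15) (nat_lit 1) TC covE_44L = true by decide +kernel)

theorem covE_44_16 : EqsP 213488 16 17 TC covE_44L :=
  eqsP_of okC (by norm_num) (by norm_num) (by norm_num) (show eqsP (nat_lit 213488) (nat_lit 18) (nat_lit 16) (nat_lit 1) TC covE_44L = true by decide +kernel)

theorem covE_44_17 : EqsP 213488 17 18 TC covE_44L :=
  eqsP_of okC (by norm_num) (by norm_num) (by norm_num) (show eqsP (nat_lit 213488) (nat_lit 18) (nat_lit 17) (nat_lit 1) TC covE_44L = true by decide +kernel)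

theorem covE_45_0 : EqsP 213488 0 18 TC covE_45L :=
  eqsP_of okC (by norm_num) (by norm_num) (by norm_num) (show eqsP (nat_lit 213488) (nat_lit 18) (nat_lit 0) (nat_lit 18) TC covE_45L = true by decide +kernel)

theorem covE_46_0 : EqsP 213488 0 18 TC covE_46L :=
  eqsP_of okC (by norm_num) (by norm_num) (by norm_num) (show eqsP (nat_lit 213488) (nat_lit 18) (nat_lit 0) (nat_lit 18) TC covE_46L = true by decide +kernel)

theorem covE_47_0 : EqsP 213488 0 18 TC covE_47L :=
  eqsP_of okC (by norm_num) (by norm_num) (by norm_num) (show eqsP (nat_lit 213488) (nat_lit 18) (nat_lit 0) (nat_lit 18) TC covE_47L = true by decide +kernel)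

theorem covE_48_0 : EqsP 213488 0 18 TC covE_48L :=
  eqsP_of okC (by norm_num) (by norm_num) (by norm_num) (show eqsP (nat_lit 213488) (nat_lit 18) (nat_lit 0) (nat_lit 18) TC covE_48L = true by decide +kernel)

theorem covE_49_0 : EqsP 213488 0 18 TC covE_49L :=
  eqsP_of okC (by norm_num) (by norm_num) (by norm_num) (show eqsP (nat_lit 213488) (nat_lit 18) (nat_lit 0) (nat_lit 18) TC covE_49L = true by decide +kernel)

theorem covE_50_0 : EqsP 213488 0 18 TC covE_50L :=
  eqsP_of okC (by norm_num) (by norm_num) (by norm_num) (show eqsP (nat_lit 213488) (nat_lit 18) (nat_lit 0) (nat_lit 18) TC covE_50L = true by decide +kernel)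

theorem covE_51_0 : EqsP 213488 0 18 TC covE_51L :=
  eqsP_of okC (by norm_num) (by norm_num) (by norm_num) (show eqsP (nat_lit 213488) (nat_lit 18) (nat_lit 0) (nat_lit 18) TC covE_51L = true by decide +kernel)

theorem covE_52_0 : EqsP 213488 0 18 TC covE_52L :=
  eqsP_of okC (by norm_num) (by norm_num) (by norm_num) (show eqsP (nat_lit 213488) (nat_lit 18) (nat_lit 0) (nat_lit 18) TC covE_52L = true by decide +kernel)

theorem covE_53_0 : EqsP 213488 0 18 TC covE_53L :=
  eqsP_of okC (by norm_num) (by norm_num) (by norm_num) (show eqsP (nat_lit 213488) (nat_lit 18) (nat_lit 0) (nat_lit 18) TC covE_53L = true by decide +kernel)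

theorem covE_54_0 : EqsP 213488 0 18 TC covE_54L :=
  eqsP_of okC (by norm_num) (by norm_num) (by norm_num) (show eqsP (nat_lit 213488) (nat_lit 18) (nat_lit 0) (nat_lit 18) TC covE_54L = true by decide +kernel)

theorem covE_55_0 : EqsP 213488 0 9 TC covE_55L :=
  eqsP_of okC (by norm_num) (by norm_num) (by norm_num) (show eqsP (nat_lit 213488) (nat_lit 18) (nat_lit 0) (nat_lit 9) TC covE_55L = true by decide +kernel)

theorem covE_55_9 : EqsP 213488 9 18 TC covE_55L :=
  eqsP_of okC (by norm_num) (by norm_num) (by norm_num) (show eqsP (nat_lit 213488) (nat_lit 18) (nat_lit 9) (nat_lit 9) TC covE_55L = true by decide +kernel)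


end Cfsg.Agent.Schur.Fi22
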