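import Cfsg.Agent.Schur.Fi22.Cov0
import Cfsg.Agent.Schur.Fi22.Cov1
import Cfsg.Agent.Schur.Fi22.Cov2
import Cfsg.Agent.Schur.Fi22.Cov3

set_option autoImplicit false
set_option maxRecDepth 100000

namespace Cfsg.Agent.Schur.Fi22
open Cfsg.Agent.Comp Cfsg.Agent.Schur

theorem covE_0 : ∀ e ∈ covE_0L, ev (sig TC) e.1 = ev (sig TC) e.2 := EqsP.eqs covE_0_0 okC (by norm_num)

theorem covE_1 : ∀ e ∈ covE_1L, ev (sig TC) e.1 = ev (sig TC) e.2 := EqsP.eqs (EqsP.join covE_1_0 covE_1_9) okC (by norm_num)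

theorem covE_2 : ∀ e ∈ covE_2L, ev (sig TC) e.1 = ev (sig TC) e.2 := EqsP.eqs covE_2_0 okC (by norm_num)

theorem covE_3 : ∀ e ∈ covE_3L, ev (sig TC) e.1 = ev (sig TC) e.2 := EqsP.eqs covE_3_0 okC (by norm_num)

theorem covE_4 : ∀ e ∈ covE_4L, ev (sig TC) e.1 = ev (sig TC) e.2 := EqsP.eqs covE_4_0 okC (by norm_num)

theorem covE_5 : ∀ e ∈ covE_5L, ev (sig TC) e.1 = ev (sig TC) e.2 := EqsP.eqs covE_5_0 okC (by norm_num)

theorem covE_6 : ∀ e ∈ covE_6L, ev (sig TC) e.1 = ev (sig TC) e.2 := EqsP.eqs (EqsP.join covE_6_0 covE_6_9) okC (by norm_num)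

theorem covE_7 : ∀ e ∈ covE_7L, ev (sig TC) e.1 = ev (sig TC) e.2 := EqsP.eqs (EqsP.join covE_7_0 covE_7_9) okC (by norm_num)

theorem covE_8 : ∀ e ∈ covE_8L, ev (sig TC) e.1 = ev (sig TC) e.2 := EqsP.eqs (EqsP.join covE_8_0 covE_8_9) okC (by norm_num)

theorem covE_9 : ∀ e ∈ covE_9L, ev (sig TC) e.1 = ev (sig TC) e.2 := EqsP.eqs covE_9_0 okC (by norm_num)

theorem covE_10 : ∀ e ∈ covE_10L, ev (sig TC) e.1 = ev (sig TC) e.2 := EqsP.eqs covE_10_0 okC (by norm_num)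

theorem covE_11 : ∀ e ∈ covE_11L, ev (sig TC) e.1 = ev (sig TC) e.2 := EqsP.eqs covE_11_0 okC (by norm_num)

theorem covE_12 : ∀ e ∈ covE_12L, ev (sig TC) e.1 = ev (sig TC) e.2 := EqsP.eqs covE_12_0 okC (by norm_num)

theorem covE_13 : ∀ e ∈ covE_13L, ev (sig TC) e.1 = ev (sig TC) e.2 := EqsP.eqs covE_13_0 okC (by norm_num)

theorem covE_14 : ∀ e ∈ covE_14L, ev (sig TC) e.1 = ev (sig TC) e.2 := EqsP.eqs (EqsP.join covE_14_0 covE_14_9) okC (by norm_num)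

theorem covE_15 : ∀ e ∈ covE_15L, ev (sig TC) e.1 = ev (sig TC) e.2 := EqsP.eqs (EqsP.join covE_15_0 covE_15_9) okC (by norm_num)

theorem covE_16 : ∀ e ∈ covE_16L, ev (sig TC) e.1 = ev (sig TC) e.2 := EqsP.eqs covE_16_0 okC (by norm_num)

theorem covE_17 : ∀ e ∈ covE_17L, ev (sig TC) e.1 = ev (sig TC) e.2 := EqsP.eqs covE_17_0 okC (by norm_num)

theorem covE_18 : ∀ e ∈ covE_18L, ev (sig TC) e.1 = ev (sig TC) e.2 := EqsP.eqs covE_18_0 okC (by norm_num)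

theorem covE_19 : ∀ e ∈ covE_19L, ev (sig TC) e.1 = ev (sig TC) e.2 := EqsP.eqs covE_19_0 okC (by norm_num)

theorem covE_20 : ∀ e ∈ covE_20L, ev (sig TC) e.1 = ev (sig TC) e.2 := EqsP.eqs covE_20_0 okC (by norm_num)

theorem covE_21 : ∀ e ∈ covE_21L, ev (sig TC) e.1 = ev (sig TC) e.2 := EqsP.eqs (EqsP.join covE_21_0 covE_21_9) okC (by norm_num)

theorem covE_22 : ∀ e ∈ covE_22L, ev (sig TC) e.1 = ev (sig TC) e.2 := EqsP.eqs (EqsP.join covE_22_0 covE_22_9) okC (by norm_num)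

theorem covE_23 : ∀ e ∈ covE_23L, ev (sig TC) e.1 = ev (sig TC) e.2 := EqsP.eqs (EqsP.join covE_23_0 covE_23_9) okC (by norm_num)

theorem covE_24 : ∀ e ∈ covE_24L, ev (sig TC) e.1 = ev (sig TC) e.2 := EqsP.eqs (EqsP.join covE_24_0 covE_24_9) okC (by norm_num)

theorem covE_25 : ∀ e ∈ covE_25L, ev (sig TC) e.1 = ev (sig TC) e.2 := EqsP.eqs (EqsP.join covE_25_0 covE_25_9) okC (by norm_num)

theorem covE_26 : ∀ e ∈ covE_26L, ev (sig TC) e.1 = ev (sig TC) e.2 := EqsP.eqs (EqsP.join covE_26_0 covE_26_9) okC (by norm_num)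

theorem covE_27 : ∀ e ∈ covE_27L, ev (sig TC) e.1 = ev (sig TC) e.2 := EqsP.eqs (EqsP.join covE_27_0 covE_27_9) okC (by norm_num)

theorem covE_28 : ∀ e ∈ covE_28L, ev (sig TC) e.1 = ev (sig TC) e.2 := EqsP.eqs (EqsP.join covE_28_0 covE_28_9) okC (by norm_num)

theorem covE_29 : ∀ e ∈ covE_29L, ev (sig TC) e.1 = ev (sig TC) e.2 := EqsP.eqs (EqsP.join covE_29_0 covE_29_9) okC (by norm_num)

theorem covE_30 : ∀ e ∈ covE_30L, ev (sig TC) e.1 = ev (sig TC) e.2 := EqsP.eqs (EqsP.join covE_30_0 covE_30_9) okC (by norm_num)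

theorem covE_31 : ∀ e ∈ covE_31L, ev (sig TC) e.1 = ev (sig TC) e.2 := EqsP.eqs (EqsP.join covE_31_0 covE_31_9) okC (by norm_num)

theorem covE_32 : ∀ e ∈ covE_32L, ev (sig TC) e.1 = ev (sig TC) e.2 := EqsP.eqs (EqsP.join covE_32_0 covE_32_9) okC (by norm_num)

theorem covE_33 : ∀ e ∈ covE_33L, ev (sig TC) e.1 = ev (sig TC) e.2 := EqsP.eqs covE_33_0 okC (by norm_num)

theorem covE_34 : ∀ e ∈ covE_34L, ev (sig TC) e.1 = ev (sig TC) e.2 := EqsP.eqs covE_34_0 okC (by norm_num)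

theorem covE_35 : ∀ e ∈ covE_35L, ev (sig TC) e.1 = ev (sig TC) e.2 := EqsP.eqs covE_35_0 okC (by norm_num)

theorem covE_36 : ∀ e ∈ covE_36L, ev (sig TC) e.1 = ev (sig TC) e.2 := EqsP.eqs (EqsP.join covE_36_0 covE_36_9) okC (by norm_num)

theorem covE_37 : ∀ e ∈ covE_37L, ev (sig TC) e.1 = ev (sig TC) e.2 := EqsP.eqs covE_37_0 okC (by norm_num)

theorem covE_38 : ∀ e ∈ covE_38L, ev (sig TC) e.1 = ev (sig TC) e.2 := EqsP.eqs covE_38_0 okC (by norm_num)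

theorem covE_39 : ∀ e ∈ covE_39L, ev (sig TC) e.1 = ev (sig TC) e.2 := EqsP.eqs covE_39_0 okC (by norm_num)

theorem covE_40 : ∀ e ∈ covE_40L, ev (sig TC) e.1 = ev (sig TC) e.2 := EqsP.eqs covE_40_0 okC (by norm_num)

theorem covE_41 : ∀ e ∈ covE_41L, ev (sig TC) e.1 = ev (sig TC) e.2 := EqsP.eqs (EqsP.join covE_41_0 covE_41_9) okC (by norm_num)

theorem covE_42 : ∀ e ∈ covE_42L, ev (sig TC) e.1 = ev (sig TC) e.2 := EqsP.eqs (EqsP.join (EqsP.join (EqsP.join (EqsP.join (EqsP.join (EqsP.join (EqsP.join (EqsP.join (EqsP.join (EqsP.join (EqsP.join (EqsP.join (EqsP.join (EqsP.join (EqsP.join (EqsP.join (EqsP.join covE_42_0 covE_42_1) covE_42_2) covE_42_3) covE_42_4) covE_42_5) covE_42_6) covE_42_7) covE_42_8) covE_42_9) covE_42_10) covE_42_11) covE_42_12) covE_42_13) covE_42_14) covE_42_15) covE_42_16) covE_42_17) okC (by norm_num)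

theorem covE_43 : ∀ e ∈ covE_43L, ev (sig TC) e.1 = ev (sig TC) e.2 := EqsP.eqs (EqsP.join (EqsP.join (EqsP.join (EqsP.join (EqsP.join (EqsP.join (EqsP.join (EqsP.join (EqsP.join (EqsP.join (EqsP.join (EqsP.join (EqsP.join (EqsP.join (EqsP.join (EqsP.join (EqsP.join covE_43_0 covE_43_1) covE_43_2) covE_43_3) covE_43_4) covE_43_5) covE_43_6) covE_43_7) covE_43_8) covE_43_9) covE_43_10) covE_43_11) covE_43_12) covE_43_13) covE_43_14) covE_43_15) covE_43_16) covE_43_17) okC (by norm_num)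

theorem covE_44 : ∀ e ∈ covE_44L, ev (sig TC) e.1 = ev (sig TC) e.2 := EqsP.eqs (EqsP.join (EqsP.join (EqsP.join (EqsP.join (EqsP.join (EqsP.join (EqsP.join (EqsP.join (EqsP.join (EqsP.join (EqsP.join (EqsP.join (EqsP.join (EqsP.join (EqsP.join (EqsP.join (EqsP.join covE_44_0 covE_44_1) covE_44_2) covE_44_3) covE_44_4) covE_44_5) covE_44_6) covE_44_7) covE_44_8) covE_44_9) covE_44_10) covE_44_11) covE_44_12) covE_44_13) covE_44_14) covE_44_15) covE_44_16) covE_44_17) okC (by norm_num)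

theorem covE_45 : ∀ e ∈ covE_45L, ev (sig TC) e.1 = ev (sig TC) e.2 := EqsP.eqs covE_45_0 okC (by norm_num)

theorem covE_46 : ∀ e ∈ covE_46L, ev (sig TC) e.1 = ev (sig TC) e.2 := EqsP.eqs covE_46_0 okC (by norm_num)

theorem covE_47 : ∀ e ∈ covE_47L, ev (sig TC) e.1 = ev (sig TC) e.2 := EqsP.eqs covE_47_0 okC (by norm_num)

theorem covE_48 : ∀ e ∈ covE_48L, ev (sig TC) e.1 = ev (sig TC) e.2 := EqsP.eqs covE_48_0 okC (by norm_num)

theorem covE_49 : ∀ e ∈ covE_49L, ev (sig TC) e.1 = ev (sig TC) e.2 := EqsP.eqs covE_49_0 okC (by norm_num)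

theorem covE_50 : ∀ e ∈ covE_50L, ev (sig TC) e.1 = ev (sig TC) e.2 := EqsP.eqs covE_50_0 okC (by norm_num)

theorem covE_51 : ∀ e ∈ covE_51L, ev (sig TC) e.1 = ev (sig TC) e.2 := EqsP.eqs covE_51_0 okC (by norm_num)

theorem covE_52 : ∀ e ∈ covE_52L, ev (sig TC) e.1 = ev (sig TC) e.2 := EqsP.eqs covE_52_0 okC (by norm_num)

theorem covE_53 : ∀ e ∈ covE_53L, ev (sig TC) e.1 = ev (sig TC) e.2 := EqsP.eqs covE_53_0 okC (by norm_num)

theorem covE_54 : ∀ e ∈ covE_54L, ev (sig TC) e.1 = ev (sig TC) e.2 := EqsP.eqs covE_54_0 okC (by norm_num)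

theorem covE_55 : ∀ e ∈ covE_55L, ev (sig TC) e.1 = ev (sig TC) e.2 := EqsP.eqs (EqsP.join covE_55_0 covE_55_9) okC (by norm_num)

theorem covE : ∀ e ∈ (covEqs 9 1 (5 + 1) Cfsg.Agent.Comp.Fi22.R Zs), ev (sig TC) e.1 = ev (sig TC) e.2 :=
  (show (covE_0L ++ (covE_1L ++ (covE_2L ++ (covE_3L ++ (covE_4L ++ (covE_5L ++ (covE_6L ++ (covE_7L ++ (covE_8L ++ (covE_9L ++ (covE_10L ++ (covE_11L ++ (covE_12L ++ (covE_13L ++ (covE_14L ++ (covE_15L ++ (covE_16L ++ (covE_17L ++ (covE_18L ++ (covE_19L ++ (covE_20L ++ (covE_21L ++ (covE_22L ++ (covE_23L ++ (covE_24L ++ (covE_25L ++ (covE_26L ++ (covE_27L ++ (covE_28L ++ (covE_29L ++ (covE_30L ++ (covE_31L ++ (covE_32L ++ (covE_33L ++ (covE_34L ++ (covE_35L ++ (covE_36L ++ (covE_37L ++ (covE_38L ++ (covE_39L ++ (covE_40L ++ (covE_41L ++ (covE_42L ++ (covE_43L ++ (covE_44L ++ (covE_45L ++ (covE_46L ++ (covE_47L ++ (covE_48L ++ (covE_49L ++ (covE_50L ++ (covE_51L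 ++ (covE_52L ++ (covE_53L ++ (covE_54L ++ covE_55L))))))))))))))))))))))))))))))))))))))))))))))))))))))) = (covEqs 9 1 (5 + 1) Cfsg.Agent.Comp.Fi22.R Zs) by decide +kernel) ▸ (eqs_append covE_0 (eqs_append covE_1 (eqs_append covE_2 (eqs_append covE_3 (eqs_append covE_4 (eqs_append covE_5 (eqs_append covE_6 (eqs_append covE_7 (eqs_append covE_8 (eqs_append covE_9 (eqs_append covE_10 (eqs_append covE_11 (eqs_append covE_12 (eqs_append covE_13 (eqs_append covE_14 (eqs_append covE_15 (eqs_append covE_16 (eqs_append covE_17 (eqs_append covE_18 (eqs_append covE_19 (eqs_append covE_20 (eqs_append covE_21 (eqs_append covE_22 (eqs_append covE_23 (eqs_append covE_24 (eqs_append covE_25 (eqs_append covE_26 (eqs_append covE_27 (eqs_append covE_28 (eqs_append covE_29 (eqs_append covE_30 (eqs_append covE_31 (eqs_append covE_32 (eqs_append covE_33 (eqs_append covE_34 (eqs_append covE_35 (eqs_append covE_36 (eqs_append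 covE_37 (eqs_append covE_38 (eqs_append covE_39 (eqs_append covE_40 (eqs_append covE_41 (eqs_append covE_42 (eqs_append covE_43 (eqs_append covE_44 (eqs_append covE_45 (eqs_append covE_46 (eqs_append covE_47 (eqs_append covE_48 (eqs_append covE_49 (eqs_append covE_50 (eqs_append covE_51 (eqs_append covE_52 (eqs_append covE_53 (eqs_append covE_54 covE_55)))))))))))))))))))))))))))))))))))))))))))))))))))))))

def lvC : List (List (List Nat) × List Nat × Nat × Nat) :=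
  [([[9]], [0, 0], 0, 3),
   ([[9, 9, 9]], [0], 185328, 2)]

theorem low : Low Cfsg.Spor.Fi22 6 :=
  haveI := Cfsg.Agent.Comp.Fi22.simple
  low_net Cfsg.Agent.Comp.Fi22.pres okC (l := 18) (by norm_num) covE (a := 0) (a' := 1) (p := 0) (x := 9) (y := 1)
    (by decide +kernel) (by decide +kernel) (b := 13)
    (C := [nat_lit 0x300302f0302e04028030240301f03019030120300a03009040080400604005040030400204])
    (by decide +kernel) (lv := lvC) (by decide +kernel) (by decide +kernel)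

end Cfsg.Agent.Schur.Fi22
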