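import Cfsg.Agent.Schur.Fi22.CovD

set_option autoImplicit false
set_option maxRecDepth 100000

namespace Cfsg.Agent.Schur.Fi22
open Cfsg.Agent.Comp Cfsg.Agent.Schur

theorem covE_0_0 : EqsP 213488 0 18 TC covE_0L :=
  eqsP_of okC (by norm_num) (by norm_num) (by norm_num) (show eqsP (nat_lit 213488) (nat_lit 18) (nat_lit 0) (nat_lit 18) TC covE_0L = true by decide +kernel)

theorem covE_1_0 : EqsP 213488 0 9 TC covE_1L :=
  eqsP_of okC (by norm_num) (by norm_num) (by norm_num) (show eqsP (nat_lit 213488) (nat_lit 18) (nat_lit 0) (nat_lit 9) TC covE_1L = true by decide +kernel)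

theorem covE_1_9 : EqsP 213488 9 18 TC covE_1L :=
  eqsP_of okC (by norm_num) (by norm_num) (by norm_num) (show eqsP (nat_lit 213488) (nat_lit 18) (nat_lit 9) (nat_lit 9) TC covE_1L = true by decide +kernel)

theorem covE_2_0 : EqsP 213488 0 18 TC covE_2L :=
  eqsP_of okC (by norm_num) (by norm_num) (by norm_num) (show eqsP (nat_lit 213488) (nat_lit 18) (nat_lit 0) (nat_lit 18) TC covE_2L = true by decide +kernel)

theorem covE_3_0 : EqsP 213488 0 18 TC covE_3L :=
  eqsP_of okC (by norm_num) (by norm_num) (by norm_num) (show eqsP (nat_lit 213488) (nat_lit 18) (nat_lit 0) (nat_lit 18) TC covE_3L = true by decide +kernel)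

theorem covE_4_0 : EqsP 213488 0 18 TC covE_4L :=
  eqsP_of okC (by norm_num) (by norm_num) (by norm_num) (show eqsP (nat_lit 213488) (nat_lit 18) (nat_lit 0) (nat_lit 18) TC covE_4L = true by decide +kernel)

theorem covE_5_0 : EqsP 213488 0 18 TC covE_5L :=
  eqsP_of okC (by norm_num) (by norm_num) (by norm_num) (show eqsP (nat_lit 213488) (nat_lit 18) (nat_lit 0) (nat_lit 18) TC covE_5L = true by decide +kernel)

theorem covE_6_0 : EqsP 213488 0 9 TC covE_6L :=
  eqsP_of okC (by norm_num) (by norm_num) (by norm_num) (show eqsP (nat_lit 213488) (nat_lit 18) (nat_lit 0) (nat_lit 9) TC covE_6L = true by decide +kernel)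

theorem covE_6_9 : EqsP 213488 9 18 TC covE_6L :=
  eqsP_of okC (by norm_num) (by norm_num) (by norm_num) (show eqsP (nat_lit 213488) (nat_lit 18) (nat_lit 9) (nat_lit 9) TC covE_6L = true by decide +kernel)

theorem covE_7_0 : EqsP 213488 0 9 TC covE_7L :=
  eqsP_of okC (by norm_num) (by norm_num) (by norm_num) (show eqsP (nat_lit 213488) (nat_lit 18) (nat_lit 0) (nat_lit 9) TC covE_7L = true by decide +kernel)

theorem covE_7_9 : EqsP 213488 9 18 TC covE_7L :=
  eqsP_of okC (by norm_num) (by norm_num) (by norm_num) (show eqsP (nat_lit 213488) (nat_lit 18) (nat_lit 9) (nat_lit 9) TC covE_7L = true by decide +kernel)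

theorem covE_8_0 : EqsP 213488 0 9 TC covE_8L :=
  eqsP_of okC (by norm_num) (by norm_num) (by norm_num) (show eqsP (nat_lit 213488) (nat_lit 18) (nat_lit 0) (nat_lit 9) TC covE_8L = true by decide +kernel)

theorem covE_8_9 : EqsP 213488 9 18 TC covE_8L :=
  eqsP_of okC (by norm_num) (by norm_num) (by norm_num) (show eqsP (nat_lit 213488) (nat_lit 18) (nat_lit 9) (nat_lit 9) TC covE_8L = true by decide +kernel)

theorem covE_9_0 : EqsP 213488 0 18 TC covE_9L :=
  eqsP_of okC (by norm_num) (by norm_num) (by norm_num) (show eqsP (nat_lit 213488) (nat_lit 18) (nat_lit 0) (nat_lit 18) TC covE_9L = true by decide +kernel)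

theorem covE_10_0 : EqsP 213488 0 18 TC covE_10L :=
  eqsP_of okC (by norm_num) (by norm_num) (by norm_num) (show eqsP (nat_lit 213488) (nat_lit 18) (nat_lit 0) (nat_lit 18) TC covE_10L = true by decide +kernel)

theorem covE_11_0 : EqsP 213488 0 18 TC covE_11L :=
  eqsP_of okC (by norm_num) (by norm_num) (by norm_num) (show eqsP (nat_lit 213488) (nat_lit 18) (nat_lit 0) (nat_lit 18) TC covE_11L = true by decide +kernel)

theorem covE_12_0 : EqsP 213488 0 18 TC covE_12L :=
  eqsP_of okC (by norm_num) (by norm_num) (by norm_num) (show eqsP (nat_lit 213488) (nat_lit 18) (nat_lit 0) (nat_lit 18) TC covE_12L = true by decide +kernel)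

theorem covE_13_0 : EqsP 213488 0 18 TC covE_13L :=
  eqsP_of okC (by norm_num) (by norm_num) (by norm_num) (show eqsP (nat_lit 213488) (nat_lit 18) (nat_lit 0) (nat_lit 18) TC covE_13L = true by decide +kernel)

theorem covE_14_0 : EqsP 213488 0 9 TC covE_14L :=
  eqsP_of okC (by norm_num) (by norm_num) (by norm_num) (show eqsP (nat_lit 213488) (nat_lit 18) (nat_lit 0) (nat_lit 9) TC covE_14L = true by decide +kernel)

theorem covE_14_9 : EqsP 213488 9 18 TC covE_14L :=
  eqsP_of okC (by norm_num) (by norm_num) (by norm_num) (show eqsP (nat_lit 213488) (nat_lit 18) (nat_lit 9) (nat_lit 9) TC covE_14L = true by decide +kernel)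

theorem covE_15_0 : EqsP 213488 0 9 TC covE_15L :=
  eqsP_of okC (by norm_num) (by norm_num) (by norm_num) (show eqsP (nat_lit 213488) (nat_lit 18) (nat_lit 0) (nat_lit 9) TC covE_15L = true by decide +kernel)

theorem covE_15_9 : EqsP 213488 9 18 TC covE_15L :=
  eqsP_of okC (by norm_num) (by norm_num) (by norm_num) (show eqsP (nat_lit 213488) (nat_lit 18) (nat_lit 9) (nat_lit 9) TC covE_15L = true by decide +kernel)

theorem covE_16_0 : EqsP 213488 0 18 TC covE_16L :=
  eqsP_of okC (by norm_num) (by norm_num) (by norm_num) (show eqsP (nat_lit 213488) (nat_lit 18) (nat_lit 0) (nat_lit 18) TC covE_16L = true by decide +kernel)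

theorem covE_17_0 : EqsP 213488 0 18 TC covE_17L :=
  eqsP_of okC (by norm_num) (by norm_num) (by norm_num) (show eqsP (nat_lit 213488) (nat_lit 18) (nat_lit 0) (nat_lit 18) TC covE_17L = true by decide +kernel)

theorem covE_18_0 : EqsP 213488 0 18 TC covE_18L :=
  eqsP_of okC (by norm_num) (by norm_num) (by norm_num) (show eqsP (nat_lit 213488) (nat_lit 18) (nat_lit 0) (nat_lit 18) TC covE_18L = true by decide +kernel)

theorem covE_19_0 : EqsP 213488 0 18 TC covE_19L :=
  eqsP_of okC (by norm_num) (by norm_num) (by norm_num) (show eqsP (nat_lit 213488) (nat_lit 18) (nat_lit 0) (nat_lit 18) TC covE_19L = true by decide +kernel)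

theorem covE_20_0 : EqsP 213488 0 18 TC covE_20L :=
  eqsP_of okC (by norm_num) (by norm_num) (by norm_num) (show eqsP (nat_lit 213488) (nat_lit 18) (nat_lit 0) (nat_lit 18) TC covE_20L = true by decide +kernel)

theorem covE_21_0 : EqsP 213488 0 9 TC covE_21L :=
  eqsP_of okC (by norm_num) (by norm_num) (by norm_num) (show eqsP (nat_lit 213488) (nat_lit 18) (nat_lit 0) (nat_lit 9) TC covE_21L = true by decide +kernel)

theorem covE_21_9 : EqsP 213488 9 18 TC covE_21L :=
  eqsP_of okC (by norm_num) (by norm_num) (by norm_num) (show eqsP (nat_lit 213488) (nat_lit 18) (nat_lit 9) (nat_lit 9) TC covE_21L = true by decide +kernel)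

theorem covE_22_0 : EqsP 213488 0 9 TC covE_22L :=
  eqsP_of okC (by norm_num) (by norm_num) (by norm_num) (show eqsP (nat_lit 213488) (nat_lit 18) (nat_lit 0) (nat_lit 9) TC covE_22L = true by decide +kernel)

theorem covE_22_9 : EqsP 213488 9 18 TC covE_22L :=
  eqsP_of okC (by norm_num) (by norm_num) (by norm_num) (show eqsP (nat_lit 213488) (nat_lit 18) (nat_lit 9) (nat_lit 9) TC covE_22L = true by decide +kernel)

theorem covE_23_0 : EqsP 213488 0 9 TC covE_23L :=
  eqsP_of okC (by norm_num) (by norm_num) (by norm_num) (show eqsP (nat_lit 213488) (nat_lit 18) (nat_lit 0) (nat_lit 9) TC covE_23L = true by decide +kernel)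

theorem covE_23_9 : EqsP 213488 9 18 TC covE_23L :=
  eqsP_of okC (by norm_num) (by norm_num) (by norm_num) (show eqsP (nat_lit 213488) (nat_lit 18) (nat_lit 9) (nat_lit 9) TC covE_23L = true by decide +kernel)

theorem covE_24_0 : EqsP 213488 0 9 TC covE_24L :=
  eqsP_of okC (by norm_num) (by norm_num) (by norm_num) (show eqsP (nat_lit 213488) (nat_lit 18) (nat_lit 0) (nat_lit 9) TC covE_24L = true by decide +kernel)


end Cfsg.Agent.Schur.Fi22
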