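import Cfsg.Agent.Schur.Cover
import Cfsg.Agent.Comp.Fi22.Main
import Cfsg.Agent.Schur.Fi22.CovN0
import Cfsg.Agent.Schur.Fi22.CovN1
import Cfsg.Agent.Schur.Fi22.CovN2

set_option autoImplicit false
set_option maxRecDepth 100000

namespace Cfsg.Agent.Schur.Fi22
open Cfsg.Agent.Comp Cfsg.Agent.Schur

noncomputable def TC : List Net := [c0, c1, c2, c3, c4, c5, c6, c7, c8, c9]

theorem okC : TOK 213488 TC :=
  (TOK.cons c0_ok (TOK.cons c1_ok (TOK.cons c2_ok (TOK.cons c3_ok (TOK.cons c4_ok (TOK.cons c5_ok (TOK.cons c6_ok (TOK.cons c7_ok (TOK.cons c8_ok (TOK.cons c9_ok (TOK.nil _)))))))))))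

def Zs : List (List Nat) :=
  [[],
   [],
   [9, 9, 9, 9],
   [9, 9],
   [],
   [],
   [],
   [],
   [],
   [9, 9, 9],
   [9, 9, 9, 9],
   [9, 9],
   [],
   [],
   [],
   [],
   [],
   [],
   [9, 9],
   [],
   [],
   [],
   [],
   [],
   [],
   [9, 9, 9, 9],
   [9, 9, 9, 9],
   [9, 9, 9, 9],
   [9, 9, 9, 9],
   [9, 9, 9, 9],
   [],
   [9, 9],
   [9, 9],
   [],
   [9, 9],
   [],
   [],
   [],
   [],
   [],
   [],
   [],
   [],
   [],
   [],
   [],
   [],
   []]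

def covE_0L : List (List Nat × List Nat) :=
  [([0, 0], []),
   ([1, 1], [])]

def covE_1L : List (List Nat × List Nat) :=
  [([2, 2], [9, 9, 9, 9])]

def covE_2L : List (List Nat × List Nat) :=
  [([3, 3], [9, 9])]

def covE_3L : List (List Nat × List Nat) :=
  [([4, 4], []),
   ([5, 5], [])]

def covE_4L : List (List Nat × List Nat) :=
  [([6, 6], []),
   ([7, 7], [])]

def covE_5L : List (List Nat × List Nat) :=
  [([8, 8], [])]

def covE_6L : List (List Nat × List Nat) :=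
  [([0, 1, 0, 1, 0, 1], [9, 9, 9])]

def covE_7L : List (List Nat × List Nat) :=
  [([0, 2, 0, 2], [9, 9, 9, 9])]

def covE_8L : List (List Nat × List Nat) :=
  [([0, 3, 0, 3], [9, 9])]

def covE_9L : List (List Nat × List Nat) :=
  [([0, 4, 0, 4], [])]

def covE_10L : List (List Nat × List Nat) :=
  [([0, 5, 0, 5], [])]

def covE_11L : List (List Nat × List Nat) :=
  [([0, 6, 0, 6], [])]

def covE_12L : List (List Nat × List Nat) :=
  [([0, 7, 0, 7], [])]

def covE_13L : List (List Nat × List Nat) :=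
  [([0, 8, 0, 8], [])]

def covE_14L : List (List Nat × List Nat) :=
  [([1, 2, 1, 2, 1, 2], [])]

def covE_15L : List (List Nat × List Nat) :=
  [([1, 3, 1, 3], [9, 9])]

def covE_16L : List (List Nat × List Nat) :=
  [([1, 4, 1, 4], [])]

def covE_17L : List (List Nat × List Nat) :=
  [([1, 5, 1, 5], [])]

def covE_18L : List (List Nat × List Nat) :=
  [([1, 6, 1, 6], [])]

def covE_19L : List (List Nat × List Nat) :=
  [([1, 7, 1, 7], [])]

def covE_20L : List (List Nat × List Nat) :=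
  [([1, 8, 1, 8], [])]

def covE_21L : List (List Nat × List Nat) :=
  [([2, 3, 2, 3, 2, 3], [])]

def covE_22L : List (List Nat × List Nat) :=
  [([2, 4, 2, 4], [9, 9, 9, 9])]

def covE_23L : List (List Nat × List Nat) :=
  [([2, 5, 2, 5], [9, 9, 9, 9])]

def covE_24L : List (List Nat × List Nat) :=
  [([2, 6, 2, 6], [9, 9, 9, 9])]

def covE_25L : List (List Nat × List Nat) :=
  [([2, 7, 2, 7], [9, 9, 9, 9])]

def covE_26L : List (List Nat × List Nat) :=
  [([2, 8, 2, 8], [9, 9, 9, 9])]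

def covE_27L : List (List Nat × List Nat) :=
  [([3, 4, 3, 4, 3, 4], [])]

def covE_28L : List (List Nat × List Nat) :=
  [([3, 5, 3, 5], [9, 9])]

def covE_29L : List (List Nat × List Nat) :=
  [([3, 6, 3, 6], [9, 9])]

def covE_30L : List (List Nat × List Nat) :=
  [([3, 7, 3, 7, 3, 7], [])]

def covE_31L : List (List Nat × List Nat) :=
  [([3, 8, 3, 8], [9, 9])]

def covE_32L : List (List Nat × List Nat) :=
  [([4, 5, 4, 5, 4, 5], [])]

def covE_33L : List (List Nat × List Nat) :=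
  [([4, 6, 4, 6], [])]

def covE_34L : List (List Nat × List Nat) :=
  [([4, 7, 4, 7], [])]

def covE_35L : List (List Nat × List Nat) :=
  [([4, 8, 4, 8], [])]

def covE_36L : List (List Nat × List Nat) :=
  [([5, 6, 5, 6, 5, 6], [])]

def covE_37L : List (List Nat × List Nat) :=
  [([5, 7, 5, 7], [])]

def covE_38L : List (List Nat × List Nat) :=
  [([5, 8, 5, 8], [])]

def covE_39L : List (List Nat × List Nat) :=
  [([6, 7, 6, 7], [])]

def covE_40L : List (List Nat × List Nat) :=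
  [([6, 8, 6, 8], [])]

def covE_41L : List (List Nat × List Nat) :=
  [([7, 8, 7, 8, 7, 8], [])]

def covE_42L : List (List Nat × List Nat) :=
  [([3, 2, 1, 3, 4, 5, 3, 7, 8, 3, 2, 1, 3, 4, 5, 3, 7, 8, 3, 2, 1, 3, 4, 5, 3, 7, 8, 3, 2, 1, 3, 4, 5, 3, 7, 8, 3, 2, 1, 3, 4, 5, 3, 7, 8, 3, 2, 1, 3, 4, 5, 3, 7, 8, 3, 2, 1, 3, 4, 5, 3, 7, 8, 3, 2, 1, 3, 4, 5, 3, 7, 8, 3, 2, 1, 3, 4, 5, 3, 7, 8, 3, 2, 1, 3, 4, 5, 3, 7, 8], [])]

def covE_43L : List (List Nat × List Nat) :=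
  [([0, 1, 2, 3, 4, 5, 7, 0, 1, 2, 3, 4, 5, 7, 0, 1, 2, 3, 4, 5, 7, 0, 1, 2, 3, 4, 5, 7, 0, 1, 2, 3, 4, 5, 7, 0, 1, 2, 3, 4, 5, 7, 0, 1, 2, 3, 4, 5, 7, 0, 1, 2, 3, 4, 5, 7, 0, 1, 2, 3, 4, 5, 7], [])]

def covE_44L : List (List Nat × List Nat) :=
  [([1, 2, 3, 4, 5, 6, 7, 1, 2, 3, 4, 5, 6, 7, 1, 2, 3, 4, 5, 6, 7, 1, 2, 3, 4, 5, 6, 7, 1, 2, 3, 4, 5, 6, 7, 1, 2, 3, 4, 5, 6, 7, 1, 2, 3, 4, 5, 6, 7, 1, 2, 3, 4, 5, 6, 7, 1, 2, 3, 4, 5, 6, 7], [])]

def covE_45L : List (List Nat × List Nat) :=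
  [([0, 9], [9, 0])]

def covE_46L : List (List Nat × List Nat) :=
  [([1, 9], [9, 1])]

def covE_47L : List (List Nat × List Nat) :=
  [([2, 9], [9, 2])]

def covE_48L : List (List Nat × List Nat) :=
  [([3, 9], [9, 3])]

def covE_49L : List (List Nat × List Nat) :=
  [([4, 9], [9, 4])]

def covE_50L : List (List Nat × List Nat) :=
  [([5, 9], [9, 5])]

def covE_51L : List (List Nat × List Nat) :=
  [([6, 9], [9, 6])]

def covE_52L : List (List Nat × List Nat) :=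
  [([7, 9], [9, 7])]

def covE_53L : List (List Nat × List Nat) :=
  [([8, 9], [9, 8])]

def covE_54L : List (List Nat × List Nat) :=
  [([9, 9], [9, 9])]

def covE_55L : List (List Nat × List Nat) :=
  [([9, 9, 9, 9, 9, 9], [])]


end Cfsg.Agent.Schur.Fi22
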